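import Cfsg.Agent.Lib.CosetEnum.Fi22x3510.Data
import Cfsg.Agent.Lib.CosetEnum.Fi22Out.Data

/-! Kernel checks of the programs. -/

set_option autoImplicit false
set_option maxRecDepth 20000
set_option Elab.async false

namespace Cfsg.Agent.Lib.CosetEnum.Fi22Out

open Cfsg.Agent.Lib.CosetEnum

theorem slp3_part0 : allFrom 0 11 (slpAt 3 3510 table3 ops3 perms3) = true := by decide +kernel

theorem slp3_part1 : allFrom 11 11 (slpAt 3 3510 table3 ops3 perms3) = true := by decide +kernel

theorem slp3_part2 : allFrom 22 11 (slpAt 3 3510 table3 ops3 perms3) = true := by decide +kernel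

theorem slp3_part3 : allFrom 33 11 (slpAt 3 3510 table3 ops3 perms3) = true := by decide +kernel

theorem slp3_part4 : allFrom 44 11 (slpAt 3 3510 table3 ops3 perms3) = true := by decide +kernel

theorem slp3_part5 : allFrom 55 11 (slpAt 3 3510 table3 ops3 perms3) = true := by decide +kernel

theorem slp3_part6 : allFrom 66 11 (slpAt 3 3510 table3 ops3 perms3) = true := by decide +kernel

theorem slp3_part7 : allFrom 77 11 (slpAt 3 3510 table3 ops3 perms3) = true := by decide +kernel

theorem slp3_part8 : allFrom 88 11 (slpAt 3 3510 table3 ops3 perms3) = true := by decide +kernel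

theorem slp3_part9 : allFrom 99 11 (slpAt 3 3510 table3 ops3 perms3) = true := by decide +kernel

theorem slp3_part10 : allFrom 110 11 (slpAt 3 3510 table3 ops3 perms3) = true := by decide +kernel

theorem slp3_part11 : allFrom 121 11 (slpAt 3 3510 table3 ops3 perms3) = true := by decide +kernel

theorem slp3_part12 : allFrom 132 11 (slpAt 3 3510 table3 ops3 perms3) = true := by decide +kernel

theorem slp3_part13 : allFrom 143 11 (slpAt 3 3510 table3 ops3 perms3) = true := by decide +kernel

theorem slp3_part14 : allFrom 154 11 (slpAt 3 3510 table3 ops3 perms3) = true := by decide +kernel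

theorem slp3_part15 : allFrom 165 11 (slpAt 3 3510 table3 ops3 perms3) = true := by decide +kernel

theorem slp3_part16 : allFrom 176 11 (slpAt 3 3510 table3 ops3 perms3) = true := by decide +kernel

theorem slp3_part17 : allFrom 187 11 (slpAt 3 3510 table3 ops3 perms3) = true := by decide +kernel

theorem slp3_part18 : allFrom 198 11 (slpAt 3 3510 table3 ops3 perms3) = true := by decide +kernel

theorem slp3_part19 : allFrom 209 11 (slpAt 3 3510 table3 ops3 perms3) = true := by decide +kernel

theorem slp3_part20 : allFrom 220 11 (slpAt 3 3510 table3 ops3 perms3) = true := by decide +kernel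

theorem slp3_part21 : allFrom 231 11 (slpAt 3 3510 table3 ops3 perms3) = true := by decide +kernel

theorem slp3_part22 : allFrom 242 11 (slpAt 3 3510 table3 ops3 perms3) = true := by decide +kernel

theorem slp3_part23 : allFrom 253 2 (slpAt 3 3510 table3 ops3 perms3) = true := by decide +kernel

theorem slp3_ok : allBelow 255 (slpAt 3 3510 table3 ops3 perms3) = true :=
  (allBelow_add (allBelow_add (allBelow_add (allBelow_add (allBelow_add (allBelow_add (allBelow_add (allBelow_add (allBelow_add (allBelow_add (allBelow_add (allBelow_add (allBelow_add (allBelow_add (allBelow_add (allBelow_add (allBelow_add (allBelow_add (allBelow_add (allBelow_add (allBelow_add (allBelow_add (allBelow_add (allBelow_add (rfl : allBelow 0 (slpAt 3 3510 table3 ops3 perms3) = true) slp3_part0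
    (by omega : 0 + 11 = 11)) slp3_part1
    (by omega : 11 + 11 = 22)) slp3_part2
    (by omega : 22 + 11 = 33)) slp3_part3
    (by omega : 33 + 11 = 44)) slp3_part4
    (by omega : 44 + 11 = 55)) slp3_part5
    (by omega : 55 + 11 = 66)) slp3_part6
    (by omega : 66 + 11 = 77)) slp3_part7
    (by omega : 77 + 11 = 88)) slp3_part8
    (by omega : 88 + 11 = 99)) slp3_part9
    (by omega : 99 + 11 = 110)) slp3_part10
    (by omega : 110 + 11 = 121)) slp3_part11
    (by omega : 121 + 11 = 132)) slp3_part12
    (by omega : 132 + 11 = 143)) slp3_part13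
    (by omega : 143 + 11 = 154)) slp3_part14
    (by omega : 154 + 11 = 165)) slp3_part15
    (by omega : 165 + 11 = 176)) slp3_part16
    (by omega : 176 + 11 = 187)) slp3_part17
    (by omega : 187 + 11 = 198)) slp3_part18
    (by omega : 198 + 11 = 209)) slp3_part19
    (by omega : 209 + 11 = 220)) slp3_part20
    (by omega : 220 + 11 = 231)) slp3_part21
    (by omega : 231 + 11 = 242)) slp3_part22
    (by omega : 242 + 11 = 253)) slp3_part23
    (by omega : 253 + 2 = 255))

end Cfsg.Agent.Lib.CosetEnum.Fi22Out
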