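import Cfsg.Agent.Lib.CosetEnum.Fi22x3510.Data
import Cfsg.Agent.Lib.CosetEnum.Fi22Out.Data

/-! Kernel checks of the programs. -/

set_option autoImplicit false
set_option maxRecDepth 20000
set_option Elab.async false

namespace Cfsg.Agent.Lib.CosetEnum.Fi22Out

open Cfsg.Agent.Lib.CosetEnum

theorem img_ok : allBelow Fi22x3510.letters.K (fun g =>
    (cert.img.getD g []).all (fun k => Nat.blt k cert.E) && colWord 3510 Fi22x3510.letters.K cert.T' cert.P g (cert.img.getD g [])) = true := by
  decide +kernel


theorem lx_ok : levelsOK cert.E 3510 cert.P (cert.lx :: cert.lxs) [] = true ∧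
    chainSize (cert.lx :: cert.lxs) = 64561751654400 := by
  decide +kernel


theorem ls_ok : levelsOK cert.E 3510 cert.P (cert.lsh :: cert.lst) [] = true ∧
    chainSize (cert.lsh :: cert.lst) = 64561751654400 := by
  decide +kernel


theorem bs_ok : levelsOK cert.E 3510 cert.P cert.bs [] = true ∧ chainSize cert.bs = 64561751654400 := by
  decide +kernel


theorem rels_ok : Fi22x3510.letters.RL.all (fun l =>
    eqW (tab 3510 cert.P) (cert.bs.map OrbLevel.base) (l.flatMap fun g => cert.img.getD g []) []) = true := by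
  decide +kernel


theorem img_ne : eqW (tab 3510 cert.P) (cert.bs.map OrbLevel.base) (cert.img.getD 0 []) [] = false := by
  decide +kernel


theorem words_ok : cert.wx.all (fun k => Nat.blt k cert.E1) = true ∧
    cert.ws.all (fun k => Nat.blt k cert.E1) = true ∧ cert.wt.all (fun k => Nat.blt k cert.E1) = true ∧
    cert.W.all (fun w => w.all (fun k => Nat.blt k (cert.E + cert.E1))) = true ∧
    cert.trip.x = cert.E + cert.E1 ∧ cert.trip.s = cert.E + cert.E1 + 1 ∧
    cert.trip.t = cert.E + cert.E1 + 2 ∧ cert.trip.ex = cert.E + cert.E1 + 3 ∧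
    cert.trip.es = cert.E + cert.E1 + 4 ∧ cert.trip.et = cert.E + cert.E1 + 5 := by
  decide +kernel


theorem table3_ok : colWord 3510 3 cert.T3 cert.P 0 cert.wx = true ∧
    colWord 3510 3 cert.T3 cert.P 1 cert.ws = true ∧ colWord 3510 3 cert.T3 cert.P 2 cert.wt = true := by
  decide +kernel


theorem gen3_ok : allBelow Fi22x3510.letters.K (fun g =>
    Nat.blt (cert.gen3.getD g 0) cert.E3 && colIs 3510 Fi22x3510.letters.K Fi22x3510.table cert.P3 g (cert.gen3.getD g 0))
      = true := by
  decide +kernel

end Cfsg.Agent.Lib.CosetEnum.Fi22Out
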