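import Cfsg.Agent.Lib.CosetEnum.Fi22x3510.Data
import Cfsg.Agent.Lib.CosetEnum.Fi22Out.Data2

/-! Kernel checks of the programs. -/

set_option autoImplicit false
set_option maxRecDepth 20000
set_option Elab.async false

namespace Cfsg.Agent.Lib.CosetEnum.Fi22Out

open Cfsg.Agent.Lib.CosetEnum

theorem cent_x : cycBase (certK.table 3510) certK.trip.x (certK.lx :: certK.lxs) = true ∧
    allBelow 3510 (centAt 3510 certK.P (certK.table 3510) certK.trip.x (certK.lx :: certK.lxs)
      certK.trip.X) = true := by
  decide +kernel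


end Cfsg.Agent.Lib.CosetEnum.Fi22Out
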