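import Cfsg.Agent.Lib.CosetEnum.Fi22x3510.Data
import Cfsg.Agent.Lib.CosetEnum.Fi22Out.Data

/-! Kernel checks of the programs. -/

set_option autoImplicit false
set_option maxRecDepth 20000
set_option Elab.async false

namespace Cfsg.Agent.Lib.CosetEnum.Fi22Out

open Cfsg.Agent.Lib.CosetEnum

theorem slpI_part0 : allFrom 0 11 (slpAt Fi22x3510.letters.K 3510 imgTable ops images) = true := by decide +kernel

theorem slpI_part1 : allFrom 11 11 (slpAt Fi22x3510.letters.K 3510 imgTable ops images) = true := by decide +kernel

theorem slpI_part2 : allFrom 22 11 (slpAt Fi22x3510.letters.K 3510 imgTable ops images) = true := by decide +kernel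

theorem slpI_part3 : allFrom 33 11 (slpAt Fi22x3510.letters.K 3510 imgTable ops images) = true := by decide +kernel

theorem slpI_part4 : allFrom 44 11 (slpAt Fi22x3510.letters.K 3510 imgTable ops images) = true := by decide +kernel

theorem slpI_part5 : allFrom 55 11 (slpAt Fi22x3510.letters.K 3510 imgTable ops images) = true := by decide +kernel

theorem slpI_part6 : allFrom 66 11 (slpAt Fi22x3510.letters.K 3510 imgTable ops images) = true := by decide +kernel

theorem slpI_part7 : allFrom 77 11 (slpAt Fi22x3510.letters.K 3510 imgTable ops images) = true := by decide +kernel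

theorem slpI_part8 : allFrom 88 11 (slpAt Fi22x3510.letters.K 3510 imgTable ops images) = true := by decide +kernel

theorem slpI_part9 : allFrom 99 11 (slpAt Fi22x3510.letters.K 3510 imgTable ops images) = true := by decide +kernel

theorem slpI_part10 : allFrom 110 11 (slpAt Fi22x3510.letters.K 3510 imgTable ops images) = true := by decide +kernel

theorem slpI_part11 : allFrom 121 11 (slpAt Fi22x3510.letters.K 3510 imgTable ops images) = true := by decide +kernel

theorem slpI_part12 : allFrom 132 11 (slpAt Fi22x3510.letters.K 3510 imgTable ops images) = true := by decide +kernel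

theorem slpI_part13 : allFrom 143 11 (slpAt Fi22x3510.letters.K 3510 imgTable ops images) = true := by decide +kernel

theorem slpI_part14 : allFrom 154 7 (slpAt Fi22x3510.letters.K 3510 imgTable ops images) = true := by decide +kernel

theorem slpI_ok : allBelow 161 (slpAt Fi22x3510.letters.K 3510 imgTable ops images) = true :=
  (allBelow_add (allBelow_add (allBelow_add (allBelow_add (allBelow_add (allBelow_add (allBelow_add (allBelow_add (allBelow_add (allBelow_add (allBelow_add (allBelow_add (allBelow_add (allBelow_add (allBelow_add (rfl : allBelow 0 (slpAt Fi22x3510.letters.K 3510 imgTable ops images) = true) slpI_part0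
    (by omega : 0 + 11 = 11)) slpI_part1
    (by omega : 11 + 11 = 22)) slpI_part2
    (by omega : 22 + 11 = 33)) slpI_part3
    (by omega : 33 + 11 = 44)) slpI_part4
    (by omega : 44 + 11 = 55)) slpI_part5
    (by omega : 55 + 11 = 66)) slpI_part6
    (by omega : 66 + 11 = 77)) slpI_part7
    (by omega : 77 + 11 = 88)) slpI_part8
    (by omega : 88 + 11 = 99)) slpI_part9
    (by omega : 99 + 11 = 110)) slpI_part10
    (by omega : 110 + 11 = 121)) slpI_part11
    (by omega : 121 + 11 = 132)) slpI_part12
    (by omega : 132 + 11 = 143)) slpI_part13
    (by omega : 143 + 11 = 154)) slpI_part14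
    (by omega : 154 + 7 = 161))

end Cfsg.Agent.Lib.CosetEnum.Fi22Out
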