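import Cfsg.Agent.Lib.CosetEnum.Fi22x3510.Data
import Cfsg.Agent.Lib.CosetEnum.Fi22Out.Data2

/-! Kernel checks of the programs. -/

set_option autoImplicit false
set_option maxRecDepth 20000
set_option Elab.async false

namespace Cfsg.Agent.Lib.CosetEnum.Fi22Out

open Cfsg.Agent.Lib.CosetEnum

theorem cand0 :
    certK.trip.U.all (candOK (certK.table 3510) (certK.bs.map OrbLevel.base) certK.trip 1) = true := by
  decide +kernel

end Cfsg.Agent.Lib.CosetEnum.Fi22Out
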