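import Cfsg.Agent.Lib.CosetEnum.Fi22Out.CheckSlp
import Cfsg.Agent.Lib.CosetEnum.Fi22Out.CheckImg
import Cfsg.Agent.Lib.CosetEnum.Fi22Out.Check3
import Cfsg.Agent.Lib.CosetEnum.Fi22Out.CheckA
import Cfsg.Agent.Lib.CosetEnum.Fi22Out.CheckT
import Cfsg.Agent.Lib.CosetEnum.Fi22Out.CheckK0
import Cfsg.Agent.Lib.CosetEnum.Fi22Out.CheckK1
import Cfsg.Agent.Lib.CosetEnum.Fi22Out.CheckCX
import Cfsg.Agent.Lib.CosetEnum.Fi22Out.CheckCS0
import Cfsg.Agent.Lib.CosetEnum.Fi22Out.CheckCS1
import Cfsg.Agent.Lib.CosetEnum.Fi22Out.CheckCS2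

/-! Kernel checks of the programs. -/

set_option autoImplicit false
set_option maxRecDepth 20000
set_option Elab.async false

namespace Cfsg.Agent.Lib.CosetEnum.Fi22Out

open Cfsg.Agent.Lib.CosetEnum

theorem cand_ok : ∀ k ∈ reps,
    certK.trip.U.all (candOK (certK.table 3510) (certK.bs.map OrbLevel.base) certK.trip k) = true := by
  intro k hk
  simp only [reps, List.mem_cons, List.not_mem_nil, or_false] at hk
  rcases hk with rfl | rfl
  exacts [cand0, cand1]

theorem cent_s : cycBase (certK.table 3510) certK.trip.s (certK.lsh :: certK.lst) = true ∧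
    allBelow 3510 (centAt 3510 certK.P (certK.table 3510) certK.trip.s (certK.lsh :: certK.lst) certK.trip.U) = true :=
  ⟨cent_s_cyc, allBelow_iff.2 fun i hi => by
    rcases Nat.lt_or_ge i 1170 with h | h
    · exact allFrom_iff.1 cent_s0 i (by omega) (by omega)
    rcases Nat.lt_or_ge i 2340 with h' | h'
    · exact allFrom_iff.1 cent_s1 i h (by omega)
    · exact allFrom_iff.1 cent_s2 i h' (by omega)⟩

end Cfsg.Agent.Lib.CosetEnum.Fi22Out
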