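import Cfsg.Agent.Lib.CosetEnum.Fi22x3510.Data
import Cfsg.Agent.Lib.CosetEnum.Fi22Out.Data

/-! Kernel checks of the programs. -/

set_option autoImplicit false
set_option maxRecDepth 20000
set_option Elab.async false

namespace Cfsg.Agent.Lib.CosetEnum.Fi22Out

open Cfsg.Agent.Lib.CosetEnum

theorem slp_part0 : allFrom 0 11 (slpAt Fi22x3510.letters.K 3510 Fi22x3510.table ops perms) = true := by decide +kernel

theorem slp_part1 : allFrom 11 11 (slpAt Fi22x3510.letters.K 3510 Fi22x3510.table ops perms) = true := by decide +kernel

theorem slp_part2 : allFrom 22 11 (slpAt Fi22x3510.letters.K 3510 Fi22x3510.table ops perms) = true := by decide +kernel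

theorem slp_part3 : allFrom 33 11 (slpAt Fi22x3510.letters.K 3510 Fi22x3510.table ops perms) = true := by decide +kernel

theorem slp_part4 : allFrom 44 11 (slpAt Fi22x3510.letters.K 3510 Fi22x3510.table ops perms) = true := by decide +kernel

theorem slp_part5 : allFrom 55 11 (slpAt Fi22x3510.letters.K 3510 Fi22x3510.table ops perms) = true := by decide +kernel

theorem slp_part6 : allFrom 66 11 (slpAt Fi22x3510.letters.K 3510 Fi22x3510.table ops perms) = true := by decide +kernel

theorem slp_part7 : allFrom 77 11 (slpAt Fi22x3510.letters.K 3510 Fi22x3510.table ops perms) = true := by decide +kernel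

theorem slp_part8 : allFrom 88 11 (slpAt Fi22x3510.letters.K 3510 Fi22x3510.table ops perms) = true := by decide +kernel

theorem slp_part9 : allFrom 99 11 (slpAt Fi22x3510.letters.K 3510 Fi22x3510.table ops perms) = true := by decide +kernel

theorem slp_part10 : allFrom 110 11 (slpAt Fi22x3510.letters.K 3510 Fi22x3510.table ops perms) = true := by decide +kernel

theorem slp_part11 : allFrom 121 11 (slpAt Fi22x3510.letters.K 3510 Fi22x3510.table ops perms) = true := by decide +kernel

theorem slp_part12 : allFrom 132 11 (slpAt Fi22x3510.letters.K 3510 Fi22x3510.table ops perms) = true := by decide +kernel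

theorem slp_part13 : allFrom 143 11 (slpAt Fi22x3510.letters.K 3510 Fi22x3510.table ops perms) = true := by decide +kernel

theorem slp_part14 : allFrom 154 11 (slpAt Fi22x3510.letters.K 3510 Fi22x3510.table ops perms) = true := by decide +kernel

theorem slp_part15 : allFrom 165 11 (slpAt Fi22x3510.letters.K 3510 Fi22x3510.table ops perms) = true := by decide +kernel

theorem slp_part16 : allFrom 176 11 (slpAt Fi22x3510.letters.K 3510 Fi22x3510.table ops perms) = true := by decide +kernel

theorem slp_part17 : allFrom 187 11 (slpAt Fi22x3510.letters.K 3510 Fi22x3510.table ops perms) = true := by decide +kernel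

theorem slp_part18 : allFrom 198 11 (slpAt Fi22x3510.letters.K 3510 Fi22x3510.table ops perms) = true := by decide +kernel

theorem slp_part19 : allFrom 209 11 (slpAt Fi22x3510.letters.K 3510 Fi22x3510.table ops perms) = true := by decide +kernel

theorem slp_part20 : allFrom 220 11 (slpAt Fi22x3510.letters.K 3510 Fi22x3510.table ops perms) = true := by decide +kernel

theorem slp_part21 : allFrom 231 11 (slpAt Fi22x3510.letters.K 3510 Fi22x3510.table ops perms) = true := by decide +kernel

theorem slp_part22 : allFrom 242 11 (slpAt Fi22x3510.letters.K 3510 Fi22x3510.table ops perms) = true := by decide +kernel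

theorem slp_part23 : allFrom 253 11 (slpAt Fi22x3510.letters.K 3510 Fi22x3510.table ops perms) = true := by decide +kernel

theorem slp_part24 : allFrom 264 11 (slpAt Fi22x3510.letters.K 3510 Fi22x3510.table ops perms) = true := by decide +kernel

theorem slp_part25 : allFrom 275 11 (slpAt Fi22x3510.letters.K 3510 Fi22x3510.table ops perms) = true := by decide +kernel

theorem slp_part26 : allFrom 286 11 (slpAt Fi22x3510.letters.K 3510 Fi22x3510.table ops perms) = true := by decide +kernel

theorem slp_part27 : allFrom 297 11 (slpAt Fi22x3510.letters.K 3510 Fi22x3510.table ops perms) = true := by decide +kernel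

theorem slp_part28 : allFrom 308 11 (slpAt Fi22x3510.letters.K 3510 Fi22x3510.table ops perms) = true := by decide +kernel

theorem slp_part29 : allFrom 319 11 (slpAt Fi22x3510.letters.K 3510 Fi22x3510.table ops perms) = true := by decide +kernel

theorem slp_part30 : allFrom 330 11 (slpAt Fi22x3510.letters.K 3510 Fi22x3510.table ops perms) = true := by decide +kernel

theorem slp_part31 : allFrom 341 11 (slpAt Fi22x3510.letters.K 3510 Fi22x3510.table ops perms) = true := by decide +kernel

theorem slp_part32 : allFrom 352 11 (slpAt Fi22x3510.letters.K 3510 Fi22x3510.table ops perms) = true := by decide +kernel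

theorem slp_part33 : allFrom 363 5 (slpAt Fi22x3510.letters.K 3510 Fi22x3510.table ops perms) = true := by decide +kernel

theorem slp_ok : allBelow 368 (slpAt Fi22x3510.letters.K 3510 Fi22x3510.table ops perms) = true :=
  (allBelow_add (allBelow_add (allBelow_add (allBelow_add (allBelow_add (allBelow_add (allBelow_add (allBelow_add (allBelow_add (allBelow_add (allBelow_add (allBelow_add (allBelow_add (allBelow_add (allBelow_add (allBelow_add (allBelow_add (allBelow_add (allBelow_add (allBelow_add (allBelow_add (allBelow_add (allBelow_add (allBelow_add (allBelow_add (allBelow_add (allBelow_add (allBelow_add (allBelow_add (allBelow_add (allBelow_add (allBelow_add (allBelow_add (allBelow_add (rfl : allBelow 0 (slpAt Fi22x3510.letters.K 3510 Fi22x3510.table ops perms) = true) slp_part0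
    (by omega : 0 + 11 = 11)) slp_part1
    (by omega : 11 + 11 = 22)) slp_part2
    (by omega : 22 + 11 = 33)) slp_part3
    (by omega : 33 + 11 = 44)) slp_part4
    (by omega : 44 + 11 = 55)) slp_part5
    (by omega : 55 + 11 = 66)) slp_part6
    (by omega : 66 + 11 = 77)) slp_part7
    (by omega : 77 + 11 = 88)) slp_part8
    (by omega : 88 + 11 = 99)) slp_part9
    (by omega : 99 + 11 = 110)) slp_part10
    (by omega : 110 + 11 = 121)) slp_part11
    (by omega : 121 + 11 = 132)) slp_part12
    (by omega : 132 + 11 = 143)) slp_part13
    (by omega : 143 + 11 = 154)) slp_part14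
    (by omega : 154 + 11 = 165)) slp_part15
    (by omega : 165 + 11 = 176)) slp_part16
    (by omega : 176 + 11 = 187)) slp_part17
    (by omega : 187 + 11 = 198)) slp_part18
    (by omega : 198 + 11 = 209)) slp_part19
    (by omega : 209 + 11 = 220)) slp_part20
    (by omega : 220 + 11 = 231)) slp_part21
    (by omega : 231 + 11 = 242)) slp_part22
    (by omega : 242 + 11 = 253)) slp_part23
    (by omega : 253 + 11 = 264)) slp_part24
    (by omega : 264 + 11 = 275)) slp_part25
    (by omega : 275 + 11 = 286)) slp_part26
    (by omega : 286 + 11 = 297)) slp_part27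
    (by omega : 297 + 11 = 308)) slp_part28
    (by omega : 308 + 11 = 319)) slp_part29
    (by omega : 319 + 11 = 330)) slp_part30
    (by omega : 330 + 11 = 341)) slp_part31
    (by omega : 341 + 11 = 352)) slp_part32
    (by omega : 352 + 11 = 363)) slp_part33
    (by omega : 363 + 5 = 368))

end Cfsg.Agent.Lib.CosetEnum.Fi22Out
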